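import Mathlib

set_option autoImplicit false

namespace Cfsg.Agent.Descent

variable {X : Type*} [Group X]

theorem mem_fix {σ : MulAut X} {g : X} :
    g ∈ (MulEquiv.toMonoidHom σ).eqLocus (MonoidHom.id X) ↔ σ g = g := Iff.rfl

theorem pow_add_apply (σ : MulAut X) (i j : ℕ) (a : X) : (σ ^ (i + j)) a = (σ ^ i) ((σ ^ j) a) := by
  rw [pow_add, MulAut.mul_apply]

theorem pow_succ_apply' (σ : MulAut X) (i : ℕ) (a : X) : (σ ^ (i + 1)) a = σ ((σ ^ i) a) := by
  rw [pow_succ', MulAut.mul_apply]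

theorem pow_succ_apply (σ : MulAut X) (i : ℕ) (a : X) : (σ ^ (i + 1)) a = (σ ^ i) (σ a) := by
  rw [pow_succ, MulAut.mul_apply]

theorem pow_fix {σ : MulAut X} {a : X} (h : σ a = a) (i : ℕ) : (σ ^ i) a = a := by
  induction i with
  | zero => simp
  | succ i ih => rw [pow_succ_apply, h, ih]

theorem prod_telescope (σ : MulAut X) (a : X) (d : ℕ) :
    ((List.range d).map (fun i => (σ ^ i) (a * (σ a)⁻¹))).prod = a * ((σ ^ d) a)⁻¹ := by
  induction d with
  | zero => simp
  | succ d ih =>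
    rw [List.range_succ, List.map_append, List.prod_append, ih]
    simp only [List.map_cons, List.map_nil, List.prod_cons, List.prod_nil, mul_one, map_mul, map_inv]
    rw [pow_succ_apply]
    group

/-- The descended element is fixed. -/
theorem descended_fixed (σ : MulAut X) (e : ℕ) {g a : X} (hg : (σ ^ e) g = g) (ha : g = a * (σ a)⁻¹) :
    σ (((σ ^ e) a)⁻¹ * a) = ((σ ^ e) a)⁻¹ * a := by
  rw [ha, map_mul, map_inv] at hg
  rw [map_mul, map_inv, ← pow_succ_apply', pow_succ_apply]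
  set u := (σ ^ e) a
  set v := (σ ^ e) (σ a)
  have hv : v = σ a * a⁻¹ * u := by
    calc v = (u * v⁻¹)⁻¹ * u := by group
      _ = (a * (σ a)⁻¹)⁻¹ * u := by rw [hg]
      _ = σ a * a⁻¹ * u := by group
  rw [hv]; group

end Cfsg.Agent.Descent
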